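import Mathlib.AlgebraicTopology.CechNerve
import Mathlib.AlgebraicTopology.SimplicialObject.Homotopy

/-!
# Homotopies between endomorphisms of Čech nerves
-/

set_option autoImplicit false
set_option backward.isDefEq.respectTransparency false
set_option backward.isDefEq.respectTransparency.types false

universe v u

open CategoryTheory Limits Simplicial Opposite

namespace Groth.Agent.CechHtpy

variable {C : Type u} [Category.{v} C] (F : Arrow C)
  [∀ n : ℕ, HasWidePullback F.right (fun _ : Fin (n + 1) => F.left) fun _ => F.hom]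

variable (a b : F.left ⟶ F.left) (ha : a ≫ F.hom = F.hom) (hb : b ≫ F.hom = F.hom)

/-- The map on coordinates: `a` before the cut, `b` after it. -/
def cut {n : ℕ} (i : Fin (n + 1)) (k : Fin (n + 1 + 1)) : F.left ⟶ F.left :=
  if k.val ≤ i.val then a else b

include ha hb in
lemma cut_hom {n : ℕ} (i : Fin (n + 1)) (k : Fin (n + 1 + 1)) : cut F a b i k ≫ F.hom = F.hom := by
  unfold cut; split <;> assumption

/-- The homotopy components. -/
noncomputable def hc {n : ℕ} (i : Fin (n + 1)) : F.cechNerve _⦋n⦌ ⟶ F.cechNerve _⦋n + 1⦌ :=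
  WidePullback.lift (WidePullback.base _)
    (fun k => WidePullback.π (fun _ : Fin (n + 1) => F.hom) (i.predAbove k) ≫ cut F a b i k) (fun k => by
      rw [Category.assoc, cut_hom F a b ha hb]
      exact WidePullback.π_arrow _ _)

lemma hc_π {n : ℕ} (i : Fin (n + 1)) (k : Fin (n + 1 + 1)) :
    hc F a b ha hb i ≫ WidePullback.π (fun _ : Fin (n + 1 + 1) => F.hom) k =
      WidePullback.π (fun _ : Fin (n + 1) => F.hom) (i.predAbove k) ≫ cut F a b i k :=
  WidePullback.lift_π _ _ _ _ _

lemma hc_base {n : ℕ} (i : Fin (n + 1)) :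
    hc F a b ha hb i ≫ WidePullback.base (fun _ : Fin (n + 1 + 1) => F.hom) = WidePullback.base _ :=
  WidePullback.lift_base _ _ _ _

lemma δ_π {n : ℕ} (i : Fin (n + 2)) (k : Fin (n + 1)) :
    F.cechNerve.δ i ≫ WidePullback.π (fun _ : Fin (n + 1) => F.hom) k =
      WidePullback.π (fun _ : Fin (n + 1 + 1) => F.hom) (i.succAbove k) :=
  WidePullback.lift_π _ _ _ _ _

lemma δ_base {n : ℕ} (i : Fin (n + 2)) :
    F.cechNerve.δ i ≫ WidePullback.base (fun _ : Fin (n + 1) => F.hom) = WidePullback.base _ :=
  WidePullback.lift_base _ _ _ _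

lemma σ_π {n : ℕ} (i : Fin (n + 1)) (k : Fin (n + 1 + 1)) :
    F.cechNerve.σ i ≫ WidePullback.π (fun _ : Fin (n + 1 + 1) => F.hom) k =
      WidePullback.π (fun _ : Fin (n + 1) => F.hom) (i.predAbove k) :=
  WidePullback.lift_π _ _ _ _ _

lemma σ_base {n : ℕ} (i : Fin (n + 1)) :
    F.cechNerve.σ i ≫ WidePullback.base (fun _ : Fin (n + 1 + 1) => F.hom) = WidePullback.base _ :=
  WidePullback.lift_base _ _ _ _

lemma succAbove_val {n : ℕ} (i : Fin (n + 1)) (k : Fin n) :
    (i.succAbove k).val = if k.val < i.val then k.val else k.val + 1 := by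
  rcases i with ⟨i, hi⟩
  simp only [Fin.succAbove, Fin.lt_def, Fin.val_castSucc]
  split_ifs <;> simp

lemma predAbove_val {n : ℕ} (i : Fin n) (k : Fin (n + 1)) :
    (i.predAbove k).val = if i.val < k.val then k.val - 1 else k.val := by
  simp only [Fin.predAbove, Fin.lt_def, Fin.val_castSucc]
  split_ifs <;> simp

lemma pair_congr {n m l : ℕ} {i : Fin (n + 1)} {i' : Fin (m + 1)} {k : Fin (n + 1 + 1)} {k' : Fin (m + 1 + 1)}
    {x x' : Fin (l + 1)} (h₁ : x = x') (h₂ : k.val ≤ i.val ↔ k'.val ≤ i'.val) :
    WidePullback.π (fun _ : Fin (l + 1) => F.hom) x ≫ cut F a b i k =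
      WidePullback.π (fun _ : Fin (l + 1) => F.hom) x' ≫ cut F a b i' k' := by
  subst h₁
  simp only [cut, h₂]

/-- The homotopy from `a` to `b` applied factorwise. -/
noncomputable def homotopy (φ ψ : F ⟶ F) (hφ : φ.left = a) (hψ : ψ.left = b) (hφr : φ.right = 𝟙 _)
    (hψr : ψ.right = 𝟙 _) : SimplicialObject.Homotopy (Arrow.mapCechNerve φ) (Arrow.mapCechNerve ψ) where
  h i := hc F a b ha hb i
  h_zero_comp_δ_zero n := by
    refine WidePullback.hom_ext _ _ _ (fun k => ?_) ?_
    · rw [Category.assoc]
      erw [δ_π, hc_π]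
      refine Eq.trans ?_ (Eq.symm (WidePullback.lift_π (fun _ : Fin (n + 1) => F.hom) _ _ _ k))
      rw [hψ]
      simp [cut]
    · rw [Category.assoc]
      erw [δ_base, hc_base]
      refine Eq.trans ?_ (WidePullback.lift_base _ _ _ _).symm
      rw [hψr, Category.comp_id]
  h_last_comp_δ_last n := by
    refine WidePullback.hom_ext _ _ _ (fun k => ?_) ?_
    · rw [Category.assoc]
      erw [δ_π, hc_π]
      refine Eq.trans ?_ (Eq.symm (WidePullback.lift_π (fun _ : Fin (n + 1) => F.hom) _ _ _ k))
      rw [hφ]
      simp [cut, Nat.lt_succ_iff.mp k.isLt]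
    · rw [Category.assoc]
      erw [δ_base, hc_base]
      refine Eq.trans ?_ (WidePullback.lift_base _ _ _ _).symm
      rw [hφr, Category.comp_id]
  h_succ_comp_δ_castSucc_of_lt {n} i j hij := by
    refine WidePullback.hom_ext _ _ _ (fun k => ?_) ?_
    · rw [Category.assoc, Category.assoc]
      erw [δ_π, hc_π, hc_π, reassoc_of% (δ_π F i (j.predAbove k))]
      refine pair_congr F a b ?_ ?_
      · ext
        simp only [succAbove_val, predAbove_val, Fin.val_succ, Fin.val_castSucc, Fin.le_def, Fin.lt_def] at *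
        split_ifs <;> omega
      · simp only [succAbove_val, predAbove_val, Fin.val_succ, Fin.val_castSucc, Fin.le_def, Fin.lt_def] at *
        split_ifs <;> omega
    · rw [Category.assoc, Category.assoc]
      erw [δ_base, hc_base, hc_base, δ_base]
  h_succ_comp_δ_castSucc_succ {n} j := by
    refine WidePullback.hom_ext _ _ _ (fun k => ?_) ?_
    · rw [Category.assoc, Category.assoc]
      erw [δ_π, hc_π, hc_π]
      refine pair_congr F a b ?_ ?_
      · ext
        simp only [succAbove_val, predAbove_val, Fin.val_succ, Fin.val_castSucc, Fin.le_def, Fin.lt_def] at *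
        split_ifs <;> omega
      · simp only [succAbove_val, predAbove_val, Fin.val_succ, Fin.val_castSucc, Fin.le_def, Fin.lt_def] at *
        split_ifs <;> omega
    · rw [Category.assoc, Category.assoc]
      erw [δ_base, hc_base, hc_base]
  h_castSucc_comp_δ_succ_of_lt {n} i j hji := by
    refine WidePullback.hom_ext _ _ _ (fun k => ?_) ?_
    · rw [Category.assoc, Category.assoc]
      erw [δ_π, hc_π, hc_π, reassoc_of% (δ_π F i (j.predAbove k))]
      refine pair_congr F a b ?_ ?_
      · ext
        simp only [succAbove_val, predAbove_val, Fin.val_succ, Fin.val_castSucc, Fin.le_def, Fin.lt_def] at *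
        split_ifs <;> omega
      · simp only [succAbove_val, predAbove_val, Fin.val_succ, Fin.val_castSucc, Fin.le_def, Fin.lt_def] at *
        split_ifs <;> omega
    · rw [Category.assoc, Category.assoc]
      erw [δ_base, hc_base, hc_base, δ_base]
  h_comp_σ_castSucc_of_le {n} i j hij := by
    refine WidePullback.hom_ext _ _ _ (fun k => ?_) ?_
    · rw [Category.assoc, Category.assoc]
      erw [σ_π, hc_π, hc_π, reassoc_of% (σ_π F i (j.succ.predAbove k))]
      refine pair_congr F a b ?_ ?_
      · ext
        simp only [succAbove_val, predAbove_val, Fin.val_succ, Fin.val_castSucc, Fin.le_def, Fin.lt_def] at *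
        split_ifs <;> omega
      · simp only [succAbove_val, predAbove_val, Fin.val_succ, Fin.val_castSucc, Fin.le_def, Fin.lt_def] at *
        split_ifs <;> omega
    · rw [Category.assoc, Category.assoc]
      erw [σ_base, hc_base, hc_base, σ_base]
  h_comp_σ_succ_of_lt {n} i j hji := by
    refine WidePullback.hom_ext _ _ _ (fun k => ?_) ?_
    · rw [Category.assoc, Category.assoc]
      erw [σ_π, hc_π, hc_π, reassoc_of% (σ_π F i (j.castSucc.predAbove k))]
      refine pair_congr F a b ?_ ?_
      · ext
        simp only [succAbove_val, predAbove_val, Fin.val_succ, Fin.val_castSucc, Fin.le_def, Fin.lt_def] at *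
        split_ifs <;> omega
      · simp only [succAbove_val, predAbove_val, Fin.val_succ, Fin.val_castSucc, Fin.le_def, Fin.lt_def] at *
        split_ifs <;> omega
    · rw [Category.assoc, Category.assoc]
      erw [σ_base, hc_base, hc_base, σ_base]

end Groth.Agent.CechHtpy
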