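import Mathlib.AlgebraicTopology.CechNerve
import Mathlib.AlgebraicTopology.SimplicialSet.CategoryWithFibrations
import Mathlib.CategoryTheory.Limits.Types.Limits
import Mathlib.CategoryTheory.Limits.Types.Yoneda

/-!
# The Čech nerve of a surjection of sets is a trivial fibration
-/

set_option autoImplicit false
set_option backward.isDefEq.respectTransparency false
set_option backward.isDefEq.respectTransparency.types false

universe u

open CategoryTheory Limits Simplicial Opposite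

namespace Groth.Agent.CechHtpy

variable {A B : Type u} (f : A ⟶ B)

lemma cech_ext {n : SimplexCategoryᵒᵖ} {z w : (Arrow.mk f).cechNerve.obj n}
    (h : ∀ k, WidePullback.π (fun _ : Fin (n.unop.len + 1) => f) k z = WidePullback.π (fun _ : Fin (n.unop.len + 1) => f) k w)
    (hb : WidePullback.base (fun _ : Fin (n.unop.len + 1) => f) z = WidePullback.base (fun _ : Fin (n.unop.len + 1) => f) w) :
    z = w := by
  refine Types.limit_ext _ _ _ fun j => ?_
  rcases j with _ | k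
  · exact hb
  · exact h k

lemma map_π {n m : SimplexCategoryᵒᵖ} (g : n ⟶ m) (z : (Arrow.mk f).cechNerve.obj n) (k : Fin (m.unop.len + 1)) :
    WidePullback.π (fun _ : Fin (m.unop.len + 1) => f) k ((Arrow.mk f).cechNerve.map g z) =
      WidePullback.π (fun _ : Fin (n.unop.len + 1) => f) (g.unop.toOrderHom k) z :=
  ConcreteCategory.congr_hom (WidePullback.lift_π (fun _ : Fin (m.unop.len + 1) => f) _ _ _ k) z

lemma map_base {n m : SimplexCategoryᵒᵖ} (g : n ⟶ m) (z : (Arrow.mk f).cechNerve.obj n) :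
    WidePullback.base (fun _ : Fin (m.unop.len + 1) => f) ((Arrow.mk f).cechNerve.map g z) =
      WidePullback.base (fun _ : Fin (n.unop.len + 1) => f) z :=
  ConcreteCategory.congr_hom (WidePullback.lift_base (fun _ : Fin (m.unop.len + 1) => f) _ _ _) z

lemma exists_elt {n : ℕ} (b : B) (v : Fin (n + 1) → A) (hv : ∀ k, f (v k) = b) :
    ∃ z : (Arrow.mk f).cechNerve.obj (op ⦋n⦌),
      (∀ k, WidePullback.π (fun _ : Fin (n + 1) => f) k z = v k) ∧
        WidePullback.base (fun _ : Fin (n + 1) => f) z = b :=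
  let w := fun _ : Fin (n + 1) => f
  let l := WidePullback.lift (arrows := w) (↾fun _ : PUnit.{u+1} => b) (fun k => ↾fun _ => v k)
    (fun k => by ext; exact hv k)
  ⟨l PUnit.unit, fun k => ConcreteCategory.congr_hom (WidePullback.lift_π w _ _ _ k) PUnit.unit,
    ConcreteCategory.congr_hom (WidePullback.lift_base w _ _ _) PUnit.unit⟩

theorem cech_rlp (hf : Function.Surjective f) :
    SSet.modelCategoryQuillen.I.rlp (Arrow.mk f).augmentedCechNerve.hom := by
  intro X Y g hg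
  simp only [SSet.modelCategoryQuillen.I] at hg
  obtain ⟨m⟩ := hg
  refine ⟨fun {t b} sq => ?_⟩
  let b0 : B := SSet.yonedaEquiv b
  have hb : ∀ (d : ℕ) (σ : Δ[m] _⦋d⦌), b.app (op ⦋d⦌) σ = b0 := fun d σ => by
    have := b.naturality_apply (SSet.stdSimplex.objEquiv σ).op (SSet.yonedaEquiv (𝟙 (Δ[m] : SSet.{u})))
    have e : (Δ[m] : SSet.{u}).map (SSet.stdSimplex.objEquiv σ).op (SSet.yonedaEquiv (𝟙 (Δ[m] : SSet.{u}))) = σ :=
      SSet.stdSimplex.ext _ _ fun i => rfl
    exact ((congrArg (b.app (op ⦋d⦌)) e).symm.trans this).trans rfl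
  have ht : ∀ (d : ℕ) (σ : (∂Δ[m] : SSet.{u}) _⦋d⦌),
      WidePullback.base (fun _ : Fin (d + 1) => f) (t.app (op ⦋d⦌) σ) = b0 := fun d σ =>
    (ConcreteCategory.congr_hom (congr_app sq.w (op ⦋d⦌)) σ).trans (hb d σ.val)
  suffices ∃ z : (Arrow.mk f).cechNerve.obj (op ⦋m⦌), WidePullback.base (fun _ : Fin (m + 1) => f) z = b0 ∧
      ∀ (d : ℕ) (σ : (∂Δ[m] : SSet.{u}) _⦋d⦌) (k : Fin (d + 1)),
        WidePullback.π (fun _ : Fin (m + 1) => f) (σ.val k) z =
          WidePullback.π (fun _ : Fin (d + 1) => f) k (t.app (op ⦋d⦌) σ) by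
    obtain ⟨z, hz, hσ⟩ := this
    refine ⟨⟨{ l := SSet.yonedaEquiv.symm z, fac_left := ?_, fac_right := ?_ }⟩⟩
    · ext ⟨⟨d⟩⟩ σ
      refine cech_ext f (fun k => ?_) ?_
      · exact (map_π f _ z k).trans (hσ d σ k)
      · exact ((map_base f _ z).trans hz).trans (ht d σ).symm
    · ext ⟨⟨d⟩⟩ σ
      exact ((map_base f _ z).trans hz).trans (hb d σ).symm
  rcases Nat.eq_zero_or_pos m with rfl | hm
  · obtain ⟨a, ha⟩ := hf b0
    obtain ⟨z, -, hz⟩ := exists_elt (n := 0) f b0 (fun _ => a) (fun _ => ha)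
    refine ⟨z, hz, fun d σ k => absurd σ.property ?_⟩
    simp [SSet.boundary_zero]
  · have hmem : ∀ k : Fin (m + 1), (SSet.stdSimplex.objEquiv.symm (⦋0⦌.const ⦋m⦌ k) : Δ[m] _⦋0⦌) ∈
        (∂Δ[m] : (Δ[m] : SSet.{u}).Subcomplex).obj (op ⦋0⦌) := fun k => by
      rw [SSet.boundary_obj_eq_univ 0 m hm]; trivial
    let v : Fin (m + 1) → A := fun k =>
      WidePullback.π (fun _ : Fin (0 + 1) => f) 0 (t.app (op ⦋0⦌) ⟨_, hmem k⟩)
    have hv : ∀ k, f (v k) = b0 := fun k =>
      (ConcreteCategory.congr_hom (WidePullback.π_arrow (fun _ : Fin (0 + 1) => f) 0) _).trans (ht 0 _)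
    obtain ⟨z, hz, hzb⟩ := exists_elt f b0 v hv
    refine ⟨z, hzb, fun d σ k => (hz _).trans ?_⟩
    have := t.naturality_apply (⦋0⦌.const ⦋d⦌ k).op σ
    refine Eq.trans ?_ ((congrArg (WidePullback.π (fun _ : Fin (0 + 1) => f) 0) this).trans (map_π f (⦋0⦌.const ⦋d⦌ k).op (t.app (op ⦋d⦌) σ) 0))
    refine congrArg (fun s => WidePullback.π (fun _ : Fin (0 + 1) => f) 0 (t.app (op ⦋0⦌) s)) ?_
    refine Subtype.ext (SSet.stdSimplex.ext _ _ fun i => ?_)
    rfl

end Groth.Agent.CechHtpy
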