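import Mathlib.CategoryTheory.Limits.FormalCoproducts.Cech
import Mathlib.AlgebraicTopology.SimplicialObject.Homotopy
import Groth.Agent.CechHtpy.Basic

/-!
# Any two refinements induce homotopic maps of Cech objects
-/

set_option autoImplicit false
set_option backward.isDefEq.respectTransparency false
set_option backward.isDefEq.respectTransparency.types false

universe w v u

open CategoryTheory Limits Simplicial Opposite

namespace Groth.Agent.CechHtpy

variable {C : Type u} [Category.{v} C] [HasFiniteProducts C] {U V : FormalCoproduct.{w} C} (a b : U ⟶ V)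

/-- The projections of the Cech object. -/
noncomputable def pw (U : FormalCoproduct.{w} C) (n : ℕ) (k : Fin (n + 1)) : U.cech _⦋n⦌ ⟶ U :=
  FormalCoproduct.powerπ U (α := Fin (n + 1)) k

lemma pw_ext {T : FormalCoproduct.{w} C} {n : ℕ} {p q : T ⟶ U.cech _⦋n⦌}
    (h : ∀ k, p ≫ pw U n k = q ≫ pw U n k) : p = q :=
  Fan.IsLimit.hom_ext (U.isLimitPowerFan (α := Fin (n + 1))) p q h

lemma δ_pw (U : FormalCoproduct.{w} C) {n : ℕ} (i : Fin (n + 2)) (k : Fin (n + 1)) :
    U.cech.δ i ≫ pw U n k = pw U (n + 1) (i.succAbove k) :=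
  FormalCoproduct.mapPower_π U (fun k : Fin (n + 1) => i.succAbove k) k

lemma σ_pw (U : FormalCoproduct.{w} C) {n : ℕ} (i : Fin (n + 1)) (k : Fin (n + 2)) :
    U.cech.σ i ≫ pw U (n + 1) k = pw U n (i.predAbove k) :=
  FormalCoproduct.mapPower_π U (fun k : Fin (n + 2) => i.predAbove k) k

lemma powerMap_π' {α : Type} [HasProductsOfShape α C] (k : α) :
    FormalCoproduct.powerMap a α ≫ V.powerπ k = U.powerπ k ≫ a :=
  FormalCoproduct.hom_ext rfl fun i => by
    show (Limits.Pi.map (fun c => a.φ (i c)) ≫ Pi.π (V.obj ∘ (a.f ∘ i)) k) ≫ 𝟙 _ = Pi.π (U.obj ∘ i) k ≫ a.φ (i k)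
    exact (Category.comp_id _).trans (Limits.Pi.map_π _ _)

lemma map_pw {n : ℕ} (k : Fin (n + 1)) :
    (FormalCoproduct.cechFunctor.map a).app (op ⦋n⦌) ≫ pw V n k = pw U n k ≫ a :=
  powerMap_π' a (α := Fin (n + 1)) k

/-- `a` before the cut, `b` after it. -/
def cut' {n : ℕ} (i : Fin (n + 1)) (k : Fin (n + 1 + 1)) : U ⟶ V := if k.val ≤ i.val then a else b

/-- The homotopy components. -/
noncomputable def hr {n : ℕ} (i : Fin (n + 1)) : U.cech _⦋n⦌ ⟶ V.cech _⦋n + 1⦌ :=
  Fan.IsLimit.lift (V.isLimitPowerFan (α := Fin (n + 2))) fun k => pw U n (i.predAbove k) ≫ cut' a b i k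

lemma hr_pw {n : ℕ} (i : Fin (n + 1)) (k : Fin (n + 2)) :
    hr a b i ≫ pw V (n + 1) k = pw U n (i.predAbove k) ≫ cut' a b i k :=
  Fan.IsLimit.lift_proj _ _ _

lemma pair_congr' {n m l : ℕ} {i : Fin (n + 1)} {i' : Fin (m + 1)} {k : Fin (n + 1 + 1)} {k' : Fin (m + 1 + 1)}
    {x x' : Fin (l + 1)} (h₁ : x = x') (h₂ : k.val ≤ i.val ↔ k'.val ≤ i'.val) :
    pw U l x ≫ cut' a b i k = pw U l x' ≫ cut' a b i' k' := by
  subst h₁
  simp only [cut', h₂]

local macro "vals" : tactic => `(tactic| (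
  simp only [succAbove_val, predAbove_val, Fin.val_succ, Fin.val_castSucc, Fin.le_def, Fin.lt_def] at *
  split_ifs <;> omega))

/-- Any two morphisms of formal coproducts induce homotopic maps of Cech objects. -/
noncomputable def refineHomotopy :
    SimplicialObject.Homotopy (FormalCoproduct.cechFunctor.map a) (FormalCoproduct.cechFunctor.map b) where
  h i := hr a b i
  h_zero_comp_δ_zero n := pw_ext fun k => by
    rw [Category.assoc]
    erw [δ_pw, hr_pw, map_pw]
    simp [cut']
  h_last_comp_δ_last n := pw_ext fun k => by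
    rw [Category.assoc]
    erw [δ_pw, hr_pw, map_pw]
    simp [cut', Nat.lt_succ_iff.mp k.isLt]
  h_succ_comp_δ_castSucc_of_lt {n} i j hij := pw_ext fun k => by
    rw [Category.assoc, Category.assoc]
    erw [δ_pw, hr_pw, hr_pw, ← Category.assoc, δ_pw]
    refine pair_congr' a b ?_ ?_
    · ext; vals
    · vals
  h_succ_comp_δ_castSucc_succ {n} j := pw_ext fun k => by
    rw [Category.assoc, Category.assoc]
    erw [δ_pw, hr_pw, hr_pw]
    refine pair_congr' a b ?_ ?_
    · ext; vals
    · vals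
  h_castSucc_comp_δ_succ_of_lt {n} i j hji := pw_ext fun k => by
    rw [Category.assoc, Category.assoc]
    erw [δ_pw, hr_pw, hr_pw, ← Category.assoc, δ_pw]
    refine pair_congr' a b ?_ ?_
    · ext; vals
    · vals
  h_comp_σ_castSucc_of_le {n} i j hij := pw_ext fun k => by
    rw [Category.assoc, Category.assoc]
    erw [σ_pw, hr_pw, hr_pw, ← Category.assoc, σ_pw]
    refine pair_congr' a b ?_ ?_
    · ext; vals
    · vals
  h_comp_σ_succ_of_lt {n} i j hji := pw_ext fun k => by
    rw [Category.assoc, Category.assoc]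
    erw [σ_pw, hr_pw, hr_pw, ← Category.assoc, σ_pw]
    refine pair_congr' a b ?_ ?_
    · ext; vals
    · vals

end Groth.Agent.CechHtpy
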